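import Cfsg.Agent.Lib.Char.Zassenhaus
import Cfsg.Agent.S0729

/-!
A simple Zassenhaus group is not sharply triply transitive of even degree: otherwise the elements
`u n`, `u n w f` (`u, f` in the kernel, `n` in the subgroup of index two of the two-point stabiliser,
`w` a suitable swap) form a subgroup of index two.
-/

set_option autoImplicit false

namespace CfsgLib.ZassenhausSimple

open MulAction

variable {G Ω : Type*} [Group G] [Finite G] [MulAction G Ω] [Fintype Ω]

section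
variable (hZ : Cfsg.IsZassenhausGroup G Ω) {a b : Ω} (hab : a ≠ b)

include hZ hab in
/-- Two-point stabilisers act semiregularly on the other points. -/
theorem card_dvd : Nat.card (stabilizer G a ⊓ stabilizer G b : Subgroup G) ∣ Fintype.card Ω - 2 := by
  classical
  set D := stabilizer G a ⊓ stabilizer G b
  set R := {c : Ω // c ≠ a ∧ c ≠ b}
  have hR : Fintype.card R = Fintype.card Ω - 2 := by
    rw [Fintype.card_subtype, show (Finset.univ.filter fun c : Ω => c ≠ a ∧ c ≠ b) =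
      Finset.univ \ {a, b} by ext c; simp, Finset.card_sdiff_of_subset (Finset.subset_univ _),
      Finset.card_pair hab, Finset.card_univ]
  letI : MulAction D R :=
    { smul := fun g c => ⟨(g : G) • c.1,
        fun e => c.2.1 (MulAction.injective (g : G) (e.trans g.2.1.symm)),
        fun e => c.2.2 (MulAction.injective (g : G) (e.trans g.2.2.symm))⟩
      one_smul := fun c => Subtype.ext (one_smul G c.1)
      mul_smul := fun g k c => Subtype.ext (mul_smul (g : G) (k : G) c.1) }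
  have hfree : ∀ c : R, stabilizer D c = ⊥ := fun c => by
    rw [Subgroup.eq_bot_iff_forall]
    intro g hg
    exact Subtype.ext (hZ.2.2.1 g a b c.1 hab c.2.2.symm c.2.1.symm g.2.1 g.2.2 (congrArg Subtype.val hg))
  rw [← hR, ← Nat.card_eq_fintype_card, Nat.card_congr (selfEquivOrbitsQuotientProd hfree), Nat.card_prod]
  exact dvd_mul_left _ _

include hZ hab in
/-- With a two-point stabiliser of order `|Ω| - 2` the action is sharply triply transitive. -/
theorem exists_of_card_eq (hfull : Nat.card (stabilizer G a ⊓ stabilizer G b : Subgroup G) = Fintype.card Ω - 2)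
    {c d : Ω} (hca : c ≠ a) (hcb : c ≠ b) (hda : d ≠ a) (hdb : d ≠ b) :
    ∃ g ∈ (stabilizer G a ⊓ stabilizer G b : Subgroup G), g • c = d := by
  classical
  set D : Subgroup G := stabilizer G a ⊓ stabilizer G b
  haveI := Fintype.ofFinite D
  let f : D → {e : Ω // e ≠ a ∧ e ≠ b} := fun g => ⟨(g : G) • c,
    fun e => hca (MulAction.injective (g : G) (e.trans g.2.1.symm)),
    fun e => hcb (MulAction.injective (g : G) (e.trans g.2.2.symm))⟩
  have hf : Function.Injective f := fun g k e => by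
    have e' : (g : G) • c = (k : G) • c := congrArg Subtype.val e
    refine Subtype.ext (inv_mul_eq_one.mp (hZ.2.2.1 ((k : G)⁻¹ * g) a b c hab hcb.symm hca.symm ?_ ?_ ?_)).symm
    · exact (D.mul_mem (D.inv_mem k.2) g.2).1
    · exact (D.mul_mem (D.inv_mem k.2) g.2).2
    · rw [mul_smul, e', inv_smul_smul]
  obtain ⟨g, hg⟩ := ((Fintype.bijective_iff_injective_and_card f).mpr ⟨hf, by
    rw [← Nat.card_eq_fintype_card, hfull, Fintype.card_subtype,
      show (Finset.univ.filter fun e : Ω => e ≠ a ∧ e ≠ b) = Finset.univ \ {a, b} by ext e; simp,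
      Finset.card_sdiff_of_subset (Finset.subset_univ _), Finset.card_pair hab, Finset.card_univ]⟩).2 ⟨d, hda, hdb⟩
  exact ⟨g, g.2, congrArg Subtype.val hg⟩

include hZ hab in
/-- A subgroup of index two of the two-point stabiliser, normal there and invariant under a swap. -/
theorem exists_half (hfull : Nat.card (stabilizer G a ⊓ stabilizer G b : Subgroup G) = Fintype.card Ω - 2)
    (heven : Even (Fintype.card Ω)) (h6 : 6 ≤ Fintype.card Ω) {c : Ω} (hac : a ≠ c) (hbc : b ≠ c)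
    {s : G} (hsa : s • a = b) (hsb : s • b = a) (hsc : s • c = c) :
    ∃ N : Subgroup G, N ≤ stabilizer G a ⊓ stabilizer G b ∧
      2 * Nat.card N = Nat.card (stabilizer G a ⊓ stabilizer G b : Subgroup G) ∧
      (∀ x ∈ (stabilizer G a ⊓ stabilizer G b : Subgroup G), ∀ y ∈ (stabilizer G a ⊓ stabilizer G b : Subgroup G),
        (x * y ∈ N ↔ (x ∈ N ↔ y ∈ N))) ∧
      ∀ x ∈ N, s * x * s⁻¹ ∈ N := by
  classical
  haveI : FaithfulSMul G Ω := hZ.1
  let θ := toPermHom G Ω
  have hθ : Function.Injective θ := fun g k e => hZ.1.eq_of_smul_eq_smul fun x => congrArg (fun π : Equiv.Perm Ω => π x) e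
  have hst : ∀ (g : G) (x : Ω), (⟨θ g, g, rfl⟩ : θ.range) ∈ stabilizer θ.range x ↔ g ∈ stabilizer G x :=
    fun g x => Iff.rfl
  have h3 : IsMultiplyPretransitive θ.range Ω 3 := by
    refine ⟨fun t u => ?_⟩
    have h01 : (0 : Fin 3) ≠ 1 := by decide
    have h02 : (0 : Fin 3) ≠ 2 := by decide
    have h12 : (1 : Fin 3) ≠ 2 := by decide
    obtain ⟨g, hg0, hg1⟩ := CfsgLib.Char.Zassenhaus.exists_map hZ (t.injective.ne h01) hab
    obtain ⟨k, hk0, hk1⟩ := CfsgLib.Char.Zassenhaus.exists_map hZ hab (u.injective.ne h01)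
    obtain ⟨y, hy, hyc⟩ := exists_of_card_eq hZ hab hfull (c := g • t 2) (d := k⁻¹ • u 2)
      (fun e => t.injective.ne h02.symm (MulAction.injective g (e.trans hg0.symm)))
      (fun e => t.injective.ne h12.symm (MulAction.injective g (e.trans hg1.symm)))
      (fun e => u.injective.ne h02.symm (by rw [← hk0, ← e, smul_inv_smul]))
      (fun e => u.injective.ne h12.symm (by rw [← hk1, ← e, smul_inv_smul]))
    refine ⟨⟨θ (k * y * g), _, rfl⟩, Function.Embedding.ext fun i => ?_⟩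
    show (k * y * g) • t i = u i
    fin_cases i
    · show (k * y * g) • t 0 = u 0
      rw [mul_smul, mul_smul, hg0, mem_stabilizer_iff.mp hy.1, hk0]
    · show (k * y * g) • t 1 = u 1
      rw [mul_smul, mul_smul, hg1, mem_stabilizer_iff.mp hy.2, hk1]
    · show (k * y * g) • t 2 = u 2
      rw [mul_smul, mul_smul, hyc, smul_inv_smul]
  have hsharp : ∀ t : Fin 3 ↪ Ω, stabilizer θ.range t = ⊥ := by
    intro t
    rw [Subgroup.eq_bot_iff_forall]
    rintro ⟨_, g, rfl⟩ hg
    have h : ∀ i, g • t i = t i := fun i => congrArg (fun u : Fin 3 ↪ Ω => u i) hg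
    have hg1 := hZ.2.2.1 g _ _ _ (t.injective.ne (by decide : (0 : Fin 3) ≠ 1))
      (t.injective.ne (by decide : (1 : Fin 3) ≠ 2)) (t.injective.ne (by decide : (0 : Fin 3) ≠ 2)) (h 0) (h 1) (h 2)
    subst hg1
    exact Subtype.ext (map_one θ)
  obtain ⟨N, hNle, hNn, hN2, hNs⟩ := Cfsg.Agent.S0729.result heven h6 θ.range h3 hsharp hab hac hbc
    ⟨θ s, s, rfl⟩ hsa hsb hsc
  let π : G →* θ.range := θ.rangeRestrict
  have hπb : Function.Bijective π := ⟨fun g k e => hθ (congrArg Subtype.val e), θ.rangeRestrict_surjective⟩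
  have hcomap : (stabilizer θ.range a ⊓ stabilizer θ.range b).comap π = stabilizer G a ⊓ stabilizer G b := rfl
  refine ⟨N.comap π, fun x hx => hNle hx, ?_, fun x hx y hy => ?_, fun x hx => ?_⟩
  · have hc : ∀ K : Subgroup θ.range, Nat.card (K.comap π) = Nat.card K := fun K =>
      Nat.card_congr (((Equiv.ofBijective π hπb).subtypeEquiv fun g => Iff.rfl))
    rw [← hcomap, hc, hc, ← hN2]
    have h := Subgroup.card_mul_index (N.subgroupOf (stabilizer θ.range a ⊓ stabilizer θ.range b))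
    rw [Nat.card_congr (Subgroup.subgroupOfEquivOfLe hNle).toEquiv] at h
    rw [Subgroup.relIndex, mul_comm, h]
  · have h := Subgroup.mul_mem_iff_of_index_two (H := N.subgroupOf (stabilizer θ.range a ⊓ stabilizer θ.range b)) hN2
      (a := ⟨π x, hx⟩) (b := ⟨π y, hy⟩)
    show π (x * y) ∈ N ↔ _
    rw [map_mul]
    exact h
  · show π (s * x * s⁻¹) ∈ N
    rw [map_mul, map_mul, map_inv]
    exact hNs _ hx

include hZ hab in
/-- A simple Zassenhaus group of even degree is not sharply triply transitive. -/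
theorem card_ne_of_simple [IsSimpleGroup G] (hev : Even (Nat.card (stabilizer G a ⊓ stabilizer G b : Subgroup G))) :
    Nat.card (stabilizer G a ⊓ stabilizer G b : Subgroup G) ≠ Fintype.card Ω - 2 := by
  classical
  intro hfull
  haveI : FaithfulSMul G Ω := hZ.1
  set D : Subgroup G := stabilizer G a ⊓ stabilizer G b with hD
  have hn3 := CfsgLib.Char.Zassenhaus.three_le_points hZ hab
  have hDpos : 0 < Nat.card D := Nat.card_pos
  have heven : Even (Fintype.card Ω) := by
    obtain ⟨k, hk⟩ := hev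
    exact ⟨k + 1, by omega⟩
  have hGcard := CfsgLib.Char.Zassenhaus.card_group hZ hab
  rcases Nat.lt_or_ge (Fintype.card Ω) 6 with h4 | h6
  · -- degree four
    have h4' : Fintype.card Ω = 4 := by obtain ⟨k, hk⟩ := heven; omega
    rw [hfull, h4'] at hGcard
    let θ := toPermHom G Ω
    have hθ : Function.Injective θ := fun g k e => hZ.1.eq_of_smul_eq_smul fun x => congrArg (fun π : Equiv.Perm Ω => π x) e
    have hbij : Function.Bijective θ := (Nat.bijective_iff_injective_and_card θ).2 ⟨hθ, by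
      rw [Nat.card_perm, Nat.card_eq_fintype_card (α := Ω), h4', ← hGcard]; rfl⟩
    rcases (Equiv.Perm.sign.comp θ).normal_ker.eq_bot_or_eq_top with h | h
    · have h2 := Nat.card_le_card_of_injective _ ((MonoidHom.ker_eq_bot_iff _).mp h)
      rw [← hGcard, Nat.card_eq_fintype_card (α := ℤˣ), Fintype.card_units_int] at h2
      omega
    · obtain ⟨g, hg⟩ := hbij.2 (Equiv.swap a b)
      have h1 : Equiv.Perm.sign (θ g) = 1 := MonoidHom.mem_ker.mp (h.ge (Subgroup.mem_top g))
      rw [hg, Equiv.Perm.sign_swap hab] at h1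
      exact absurd h1 (by decide)
  obtain ⟨c, hca, hcb⟩ : ∃ c, c ≠ a ∧ c ≠ b := by
    obtain ⟨c, -, hc⟩ := Finset.exists_mem_notMem_of_card_lt_card (s := ({a, b} : Finset Ω)) (t := Finset.univ)
      (by rw [Finset.card_pair hab, Finset.card_univ]; omega)
    simp only [Finset.mem_insert, Finset.mem_singleton, not_or] at hc
    exact ⟨c, hc⟩
  obtain ⟨g, hga, hgb⟩ := CfsgLib.Char.Zassenhaus.exists_map hZ hab hab.symm
  obtain ⟨y, hy, hyc⟩ := exists_of_card_eq hZ hab hfull (c := g • c) (d := c)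
    (fun e => hcb (MulAction.injective g (e.trans hgb.symm)))
    (fun e => hca (MulAction.injective g (e.trans hga.symm))) hca hcb
  obtain ⟨s, hsa, hsb, hsc⟩ : ∃ s : G, s • a = b ∧ s • b = a ∧ s • c = c :=
    ⟨y * g, by rw [mul_smul, hga, mem_stabilizer_iff.mp hy.2],
      by rw [mul_smul, hgb, mem_stabilizer_iff.mp hy.1], by rw [mul_smul, hyc]⟩
  clear hyc hy hga hgb y g
  have hss : s * s = 1 := hZ.2.2.1 _ a b c hab hcb.symm hca.symm (by rw [mul_smul, hsa, hsb])
    (by rw [mul_smul, hsb, hsa]) (by rw [mul_smul, hsc, hsc])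
  have hsi : s⁻¹ = s := inv_eq_of_mul_eq_one_right hss
  have hss' : ∀ x, s * (s * x) = x := fun x => by rw [← mul_assoc, hss, one_mul]
  have hsD : ∀ x ∈ D, s * x * s ∈ D := fun x hx => Subgroup.mem_inf.mpr
    ⟨by rw [mem_stabilizer_iff, mul_smul, mul_smul, hsa, mem_stabilizer_iff.mp hx.2, hsb],
      by rw [mem_stabilizer_iff, mul_smul, mul_smul, hsb, mem_stabilizer_iff.mp hx.1, hsa]⟩
  obtain ⟨N, hND, hNcard, hpar, hNs⟩ := exists_half hZ hab hfull heven h6 hca.symm hcb.symm hsa hsb hsc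
  simp only [hsi] at hNs
  have hparinv : ∀ x ∈ D, (x⁻¹ ∈ N ↔ x ∈ N) := fun x _ => inv_mem_iff
  have hpars : ∀ x ∈ D, (s * x * s ∈ N ↔ x ∈ N) := fun x hx =>
    ⟨fun h => by simpa [mul_assoc, hss', hss] using hNs _ h, hNs x⟩
  obtain ⟨H, hHa, hHcard, hHfix⟩ := CfsgLib.Char.Zassenhaus.exists_kernel hZ hab
  have hHD : ∀ {u y : G}, u ∈ H → y ∈ D → y * u * y⁻¹ ∈ H := fun hu hy =>
    CfsgLib.Char.Zassenhaus.conj_mem_kernel hZ hab hHa hHcard hHfix hy.1 hu
  have hHD' : ∀ {u y : G}, u ∈ H → y ∈ D → y⁻¹ * u * y ∈ H := fun {u y} hu hy => by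
    simpa using hHD hu (D.inv_mem hy)
  -- every element moving `a` is `v h s f`
  have hcell : ∀ g : G, g • a ≠ a → ∃ v ∈ H, ∃ h ∈ D, ∃ f ∈ H, g = v * h * s * f := by
    intro g hg
    obtain ⟨v, hv⟩ := (CfsgLib.Char.Zassenhaus.bijective_smul hZ hab hHa hHcard hHfix).2 ⟨g • a, hg⟩
    have hv' : (v : G) • b = g • a := congrArg Subtype.val hv
    obtain ⟨f, hf, z, hz, e⟩ := CfsgLib.Char.Zassenhaus.decompose hZ hab hHa hHcard hHfix
      (x := s * ((v : G)⁻¹ * g)) (by rw [mem_stabilizer_iff, mul_smul, mul_smul, ← hv', inv_smul_smul, hsb])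
    refine ⟨v, v.2, s * z * s, hsD z hz, z⁻¹ * f * z, hHD' hf hz, ?_⟩
    have e2 : g = v * (s * (f * z)) := by rw [← e, hss', mul_inv_cancel_left]
    rw [e2]
    calc (v : G) * (s * (f * z)) = v * s * z * (z⁻¹ * f * z) := by group
      _ = v * (s * z * s) * s * (z⁻¹ * f * z) := by
        rw [show (v : G) * (s * z * s) * s = v * s * z * (s * s) by group, hss, mul_one]
  -- the class of the structure map
  let P : G → Prop := fun u => ∃ v ∈ H, ∃ h ∈ N, ∃ f ∈ H, s * u * s = v * h * s * f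
  have hex : ∀ u ∈ H, u ≠ 1 → ∃ v ∈ H, ∃ h ∈ D, ∃ f ∈ H, s * u * s = v * h * s * f := fun u hu hu1 =>
    hcell _ fun e => hu1 (CfsgLib.Char.Zassenhaus.eq_one_of_smul_b hab hHfix hu (by
      rw [mul_smul, mul_smul, hsa] at e
      exact MulAction.injective s (e.trans hsb.symm)))
  have hconst : ∀ u ∈ H, u ≠ 1 → ∀ u' ∈ H, u' ≠ 1 → P u → P u' := by
    intro u hu hu1 u' hu' hu1' ⟨v, hv, h, hh, f, hf, e⟩
    have hne : ∀ {w : G}, w ∈ H → w ≠ 1 → w • b ≠ a ∧ w • b ≠ b := fun {w} hw hw1 =>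
      ⟨fun e => hab.symm (MulAction.injective w (e.trans (mem_stabilizer_iff.mp (hHa hw)).symm)),
        fun e => hw1 (CfsgLib.Char.Zassenhaus.eq_one_of_smul_b hab hHfix hw e)⟩
    obtain ⟨y, hy, hyu⟩ := exists_of_card_eq hZ hab hfull (hne hu hu1).1 (hne hu hu1).2 (hne hu' hu1').1 (hne hu' hu1').2
    have hu'eq : u' = y * u * y⁻¹ := by
      refine congrArg Subtype.val ((CfsgLib.Char.Zassenhaus.bijective_smul hZ hab hHa hHcard hHfix).1
        (a₁ := ⟨u', hu'⟩) (a₂ := ⟨y * u * y⁻¹, hHD hu hy⟩) (Subtype.ext ?_))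
      show u' • b = (y * u * y⁻¹) • b
      rw [← hyu, mul_smul, mul_smul, show y⁻¹ • b = b from mem_stabilizer_iff.mp ((D.inv_mem hy).2)]
    set q := s * y * s with hq
    have hqD : q ∈ D := hsD y hy
    refine ⟨q * v * q⁻¹, hHD hv hqD, q * h * y⁻¹, ?_, q * f * q⁻¹, hHD hf hqD, ?_⟩
    · rw [hpar _ (D.mul_mem hqD (hND hh)) _ (D.inv_mem hy), hparinv y hy, hpar _ hqD _ (hND hh), hq, hpars y hy]
      simp only [hh, iff_true]
    · have hqi : q⁻¹ = s * y⁻¹ * s := by rw [hq, mul_inv_rev, mul_inv_rev, hsi, mul_assoc]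
      calc s * u' * s = q * (s * u * s) * q⁻¹ := by
            rw [hu'eq, hqi, hq]; simp only [mul_assoc, hss']
        _ = q * v * q⁻¹ * (q * h) * (s * q⁻¹) * (q * f * q⁻¹) := by rw [e]; group
        _ = q * v * q⁻¹ * (q * h * y⁻¹) * s * (q * f * q⁻¹) := by
            rw [hqi]; simp only [mul_assoc, hss']
  -- a good swap
  obtain ⟨w, hwa, hwb, hww, hwN, hw⟩ : ∃ w : G, w • a = b ∧ w • b = a ∧ w * w ∈ N ∧ (∀ x ∈ N, w * x * w⁻¹ ∈ N) ∧
      ∀ u ∈ H, u ≠ 1 → ∃ v ∈ H, ∃ h ∈ N, ∃ f ∈ H, w * u * w = v * h * w * f := by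
    by_cases hall : ∀ u ∈ H, u ≠ 1 → P u
    · exact ⟨s, hsa, hsb, by rw [hss]; exact N.one_mem, fun x hx => by rw [hsi]; exact hNs x hx, hall⟩
    push Not at hall
    obtain ⟨u₀, hu₀, hu₀1, hP₀⟩ := hall
    obtain ⟨x, hxD, hxN⟩ : ∃ x ∈ D, x ∉ N := by
      by_contra hc
      push Not at hc
      have : N = D := le_antisymm hND hc
      have h1 : Nat.card N = Nat.card D := by rw [this]
      change 2 * Nat.card N = Nat.card D at hNcard
      omega
    refine ⟨s * x, ?_, ?_, ?_, fun z hz => ?_, fun u hu hu1 => ?_⟩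
    · rw [mul_smul, mem_stabilizer_iff.mp hxD.1, hsa]
    · rw [mul_smul, mem_stabilizer_iff.mp hxD.2, hsb]
    · rw [show s * x * (s * x) = (s * x * s) * x by group, hpar _ (hsD x hxD) _ hxD, hpars x hxD]
    · rw [mul_inv_rev, hsi, show s * x * z * (x⁻¹ * s) = s * (x * z * x⁻¹) * s by group,
        hpars _ (D.mul_mem (D.mul_mem hxD (hND hz)) (D.inv_mem hxD)),
        hpar _ (D.mul_mem hxD (hND hz)) _ (D.inv_mem hxD), hparinv x hxD, hpar _ hxD _ (hND hz)]
      simp only [hz, iff_true]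
    · have hu' := hHD hu hxD
      have hu'1 : x * u * x⁻¹ ≠ 1 := fun e => hu1 (conj_eq_one_iff.mp e)
      obtain ⟨v, hv, h, hh, f, hf, e⟩ := hex _ hu' hu'1
      have hhN : h ∉ N := fun h' => hP₀ (hconst _ hu' hu'1 u₀ hu₀ hu₀1 ⟨v, hv, h, h', f, hf, e⟩)
      set z := s * x * s * x with hz
      have hzD : z ∈ D := D.mul_mem (hsD x hxD) hxD
      have hzN : z ∈ N := by rw [hz, hpar _ (hsD x hxD) _ hxD, hpars x hxD]
      refine ⟨v, hv, h * (s * z * s) * (s * x⁻¹ * s), ?_, z⁻¹ * f * z, hHD' hf hzD, ?_⟩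
      · rw [hpar _ (D.mul_mem hh (hsD z hzD)) _ (hsD _ (D.inv_mem hxD)), hpars _ (D.inv_mem hxD), hparinv x hxD,
          hpar _ hh _ (hsD z hzD), hpars z hzD]
        simp only [hzN, hhN, hxN, iff_true]
      · calc s * x * u * (s * x) = (s * (x * u * x⁻¹) * s) * z := by
              rw [hz]; simp only [mul_assoc, hss', inv_mul_cancel_left]
          _ = v * h * (s * z) * (z⁻¹ * f * z) := by rw [e]; group
          _ = v * (h * (s * z * s) * (s * x⁻¹ * s)) * (s * x) * (z⁻¹ * f * z) := by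
              simp only [mul_assoc, hss', inv_mul_cancel_left]
  -- the subgroup of index two
  let B : Set G := {g | (∃ u ∈ H, ∃ n ∈ N, g = u * n) ∨ ∃ u ∈ H, ∃ n ∈ N, ∃ f ∈ H, g = u * n * w * f}
  have hBmul : ∀ g ∈ B, ∀ x ∈ ((H : Set G) ∪ (N : Set G) ∪ {w}), g * x ∈ B := by
    rintro g (⟨u, hu, n, hn, rfl⟩ | ⟨u, hu, n, hn, f, hf, rfl⟩) x ((hx | hx) | hx)
    · exact Or.inl ⟨u * (n * x * n⁻¹), H.mul_mem hu (hHD hx (hND hn)), n, hn, by group⟩
    · exact Or.inl ⟨u, hu, n * x, N.mul_mem hn hx, by group⟩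
    · rw [Set.mem_singleton_iff.mp hx]
      exact Or.inr ⟨u, hu, n, hn, 1, H.one_mem, by group⟩
    · exact Or.inr ⟨u, hu, n, hn, f * x, H.mul_mem hf hx, by group⟩
    · exact Or.inr ⟨u, hu, n * (w * x * w⁻¹), N.mul_mem hn (hwN x hx), x⁻¹ * f * x, hHD' hf (hND hx), by group⟩
    · rw [Set.mem_singleton_iff.mp hx]
      by_cases hf1 : f = 1
      · exact Or.inl ⟨u, hu, n * (w * w), N.mul_mem hn hww, by rw [hf1]; group⟩
      · obtain ⟨v, hv, h, hh, f', hf', e⟩ := hw f hf hf1
        refine Or.inr ⟨u * (n * v * n⁻¹), H.mul_mem hu (hHD hv (hND hn)), n * h, N.mul_mem hn hh, f', hf', ?_⟩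
        rw [show u * n * w * f * w = u * n * (w * f * w) by group, e]
        group
  set S := Subgroup.closure ((H : Set G) ∪ (N : Set G) ∪ {w})
  have hSB : (S : Set G) ⊆ B := by
    intro g hg
    induction hg using Subgroup.closure_induction_right with
    | one => exact Or.inl ⟨1, H.one_mem, 1, N.one_mem, by rw [mul_one]⟩
    | mul_right g _ x hx ih => exact hBmul g ih x hx
    | mul_inv_cancel g _ x hx ih =>
      haveI : Finite B := inferInstance
      obtain ⟨k, hk⟩ := Finite.surjective_of_injective (f := fun k : B => (⟨k.1 * x, hBmul k.1 k.2 x hx⟩ : B))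
        (fun k l e => Subtype.ext (mul_right_cancel (congrArg Subtype.val e))) ⟨g, ih⟩
      have hkg : k.1 * x = g := congrArg Subtype.val hk
      rw [show g * x⁻¹ = k.1 by rw [← hkg]; group]
      exact k.2
  have hBcard : B.ncard ≤ Nat.card H * Nat.card N + Nat.card H * Nat.card N * Nat.card H := by
    let f1 : H × N → G := fun p => p.1.1 * p.2.1
    let f2 : (H × N) × H → G := fun p => p.1.1.1 * p.1.2.1 * w * p.2.1
    have hsub : B ⊆ Set.range f1 ∪ Set.range f2 := by
      rintro g (⟨u, hu, n, hn, rfl⟩ | ⟨u, hu, n, hn, f, hf, rfl⟩)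
      · exact Or.inl ⟨(⟨u, hu⟩, ⟨n, hn⟩), rfl⟩
      · exact Or.inr ⟨((⟨u, hu⟩, ⟨n, hn⟩), ⟨f, hf⟩), rfl⟩
    refine (Set.ncard_le_ncard hsub).trans ((Set.ncard_union_le _ _).trans (Nat.add_le_add ?_ ?_))
    · rw [← Nat.card_prod, ← Nat.card_coe_set_eq]; exact Finite.card_range_le f1
    · rw [← Nat.card_prod, ← Nat.card_prod, ← Nat.card_coe_set_eq]; exact Finite.card_range_le f2
  have hSle : 2 * Nat.card S ≤ Nat.card G := by
    have h1 : Nat.card S ≤ B.ncard := by
      show Nat.card ↥(S : Set G) ≤ _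
      rw [Nat.card_coe_set_eq]; exact Set.ncard_le_ncard hSB
    obtain ⟨m, hm⟩ : ∃ m, Fintype.card Ω = m + 1 := ⟨Fintype.card Ω - 1, by omega⟩
    have hHm : Nat.card H = m := by omega
    rw [hm, Nat.add_sub_cancel, ← hNcard] at hGcard
    rw [hHm] at hBcard
    rw [← hGcard]
    nlinarith
  have hHS : H ≤ S := fun x hx => Subgroup.subset_closure (Or.inl (Or.inl hx))
  have hNS : N ≤ S := fun x hx => Subgroup.subset_closure (Or.inl (Or.inr hx))
  have hwS : w ∈ S := Subgroup.subset_closure (Or.inr rfl)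
  have hHNS : Nat.card H * Nat.card N * Fintype.card Ω ≤ Nat.card S := by
    haveI : IsPretransitive S Ω := isPretransitive_iff_base a |>.2 fun d => by
      by_cases hd : d = a
      · exact ⟨1, by rw [one_smul, hd]⟩
      · obtain ⟨v, hv⟩ := (CfsgLib.Char.Zassenhaus.bijective_smul hZ hab hHa hHcard hHfix).2 ⟨d, hd⟩
        refine ⟨⟨v * w, S.mul_mem (hHS v.2) hwS⟩, ?_⟩
        show ((v : G) * w) • a = d
        rw [mul_smul, hwa]
        exact congrArg Subtype.val hv
    rw [← Subgroup.index_mul_card (stabilizer S a), index_stabilizer_of_transitive, Nat.card_eq_fintype_card (α := Ω),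
      mul_comm (Nat.card H * Nat.card N)]
    refine Nat.mul_le_mul_left _ ?_
    rw [← Nat.card_prod]
    refine Nat.card_le_card_of_injective (fun p : H × N => (⟨⟨p.1.1 * p.2.1, S.mul_mem (hHS p.1.2) (hNS p.2.2)⟩,
      mem_stabilizer_iff.mpr (show (p.1.1 * p.2.1) • a = a by
        rw [mul_smul, mem_stabilizer_iff.mp (hND p.2.2).1, mem_stabilizer_iff.mp (hHa p.1.2)])⟩ : stabilizer S a))
      fun p q e => ?_
    have e' : p.1.1 * p.2.1 = q.1.1 * q.2.1 := congrArg (fun z : stabilizer S a => ((z : S) : G)) e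
    have h1 : (q.1.1)⁻¹ * p.1.1 = q.2.1 * (p.2.1)⁻¹ := by
      calc (q.1.1)⁻¹ * p.1.1 = (q.1.1)⁻¹ * (p.1.1 * p.2.1) * (p.2.1)⁻¹ := by group
        _ = q.2.1 * (p.2.1)⁻¹ := by rw [e']; group
    have h2 : (q.1.1)⁻¹ * p.1.1 = 1 := CfsgLib.Char.Zassenhaus.eq_one_of_smul_b hab hHfix
      (H.mul_mem (H.inv_mem q.1.2) p.1.2) (by
        rw [h1]
        exact mem_stabilizer_iff.mp (D.mul_mem (hND q.2.2) (D.inv_mem (hND p.2.2))).2)
    have h3 := inv_mul_eq_one.mp h2
    refine Prod.ext (Subtype.ext h3.symm) (Subtype.ext ?_)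
    rw [h3] at e'
    exact mul_left_cancel e'
  have hidx : S.index = 2 := by
    have h1 := S.card_mul_index
    obtain ⟨m, hm⟩ : ∃ m, Fintype.card Ω = m + 1 := ⟨Fintype.card Ω - 1, by omega⟩
    have hHm : Nat.card H = m := by omega
    rw [hm, Nat.add_sub_cancel, ← hNcard] at hGcard
    rw [hHm, hm] at hHNS
    have hS2 : 2 * Nat.card S = Nat.card G := le_antisymm hSle (by rw [← hGcard]; nlinarith)
    rw [← hS2, mul_comm 2] at h1
    exact Nat.eq_of_mul_eq_mul_left Nat.card_pos h1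
  rcases (Subgroup.normal_of_index_eq_two hidx).eq_bot_or_eq_top with h | h
  · have hH1 : Nat.card H ≤ 1 := by
      have := Subgroup.card_le_of_le (h ▸ hHS : H ≤ ⊥)
      rwa [Subgroup.card_bot] at this
    omega
  · rw [h, Subgroup.index_top] at hidx
    omega

end

end CfsgLib.ZassenhausSimple
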